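import Cfsg.Agent.H835.Th2.Basic

/-!
Theorem II, case A: `Q ≤ E1` is impossible.
-/

set_option autoImplicit false
set_option linter.style.longLine false

namespace Cfsg.Agent.H835.Th2

open Cfsg.Agent.H776.ThS Subgroup

variable {Q : Subgroup P} {A : Set (P → P)}

/-- in case A all `a u9` are central in `Q` -/
theorem central_of_le (h : Ctx Q A) (hW : Z2 ≤ Q) (hQ : Q ≤ E1) {a : P → P} (ha : a ∈ A) {q : P} (hq : q ∈ Q) :
    a u9 * q = q * a u9 := by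
  obtain ⟨g, hg, hi⟩ := h.inv a ha
  have hgq := h.maps g hg q hq
  have h9 : u9 ∈ Q := hW u9_mem
  rw [← (hi q hq).2, ← h.mul a ha _ h9 _ hgq, ← h.mul a ha _ hgq _ h9, Z2_comm u9_mem (hQ hgq)]

/-- commutation of an element of `N5` with an element of `E1` -/
theorem N5_E1_comm {c x : P} (hc : c ∈ N5) (hx : x ∈ E1) : c * x = x * c ↔
    (x.x2 - x.x4) * c.x6 - x.x3 * c.x7 - x.x2 * c.x8 = 0 ∧
    (x.x5 + x.x3) * c.x6 + (x.x2 - x.x4) * c.x7 - x.x3 * c.x8 = 0 := by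
  rw [comm_iff hc]
  rw [mem_E1] at hx
  obtain ⟨c1, c2, c3, c4, c5⟩ := hc
  constructor
  · intro e
    have h9 : (cx c x).x9 = c.x9 := by rw [e]
    have h10 : (cx c x).x10 = c.x10 := by rw [e]
    simp only [cx, hx] at h9 h10
    exact ⟨by linear_combination h9, by linear_combination h10⟩
  · rintro ⟨h9, h10⟩
    ext
    · exact c1.symm
    · exact c2.symm
    · exact c3.symm
    · exact c4.symm
    · exact c5.symm
    · rfl
    · simp only [cx, hx]; ring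
    · simp only [cx, hx]; ring
    · simp only [cx, hx]; linear_combination h9
    · simp only [cx, hx]; linear_combination h10

/-- `v * y = y * v * w` with `w ∈ Z2` for `v ∈ N5`, `y ∈ E1` -/
theorem N5_E1_mul {v y : P} (hv : v ∈ N5) (hy : y ∈ E1) : ∃ w ∈ Z2, v * y = y * v * w := by
  refine ⟨⟨0, 0, 0, 0, 0, 0, 0, 0, (cx v y).x9 - v.x9, (cx v y).x10 - v.x10⟩, ⟨rfl, rfl, rfl, rfl, rfl, rfl, rfl, rfl⟩, ?_⟩
  rw [N5_mul v y hv, mul_assoc, mul_right_inj, mulN _ _ ⟨rfl, rfl, rfl, rfl, rfl⟩]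
  rw [mem_E1] at hy
  obtain ⟨c1, c2, c3, c4, c5⟩ := hv
  ext
  · exact c1.symm
  · exact c2.symm
  · exact c3.symm
  · exact c4.symm
  · exact c5.symm
  · simp [cx]
  · simp [cx, hy]
  · simp [cx, hy]
  · simp
  · simp

theorem E1_pow {y : P} (hy : y ∈ E1) (k : ℕ) : (y ^ k).x1 = 0 ∧ (y ^ k).x2 = k * y.x2 ∧ (y ^ k).x3 = k * y.x3 ∧
    (y ^ k).x4 = k * y.x4 ∧ (y ^ k).x5 = k * y.x5 := by
  rw [mem_E1] at hy
  induction k with
  | zero =>
    rw [pow_zero, Nat.cast_zero]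
    refine ⟨rfl, ?_, ?_, ?_, ?_⟩ <;> rw [zero_mul] <;> rfl
  | succ k ih =>
    obtain ⟨i1, i2, i3, i4, i5⟩ := ih
    rw [pow_succ, mul_x1, mul_x2, mul_x3, mul_x4, mul_x5, i1, i2, i3, i4, i5, hy, Nat.cast_succ]
    refine ⟨by ring, by ring, by ring, by ring, by ring⟩

/-- coordinates of `x * y ^ k` in `E1` -/
theorem E1_mul_pow {x y : P} (hx : x ∈ E1) (hy : y ∈ E1) (k : ℕ) : x * y ^ k ∈ E1 ∧ (x * y ^ k).x2 = x.x2 + k * y.x2 ∧
    (x * y ^ k).x3 = x.x3 + k * y.x3 ∧ (x * y ^ k).x4 = x.x4 + k * y.x4 ∧ (x * y ^ k).x5 = x.x5 + k * y.x5 := by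
  obtain ⟨i1, i2, i3, i4, i5⟩ := E1_pow hy k
  refine ⟨mul_mem hx (pow_mem hy k), ?_⟩
  rw [mul_x2, mul_x3, mul_x4, mul_x5, i1, i2, i3, i4, i5]
  refine ⟨by ring, by ring, by ring, by ring⟩

theorem u2_mem : u2 ∈ E1 := rfl
theorem u3_mem : u3 ∈ E1 := rfl
theorem u4_mem : u4 ∈ E1 := rfl
theorem u5_mem : u5 ∈ E1 := rfl

/-- `E1` normalizes `Q` if `N5 ≤ Q ≤ E1` -/
theorem E1_normalizes (h5 : N5 ≤ Q) (hQ : Q ≤ E1) {n : P} (hn : n ∈ E1) : n ∈ normalizer (Q : Set P) := by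
  apply mem_normalizer_of'
  intro q hq
  rw [mul_assoc, E1_mul q n (hQ hq) hn, mul_assoc, inv_mul_cancel_left]
  exact mul_mem hq (h5 (ce_mem q n))

/-- (A1) -/
theorem caseA1 (T : T1W) (h : Ctx Q A) (hSE : SE Q A Z2) (hW : Z2 ≤ Q) (hfix : ∀ a ∈ A, a u10 ∈ Z1)
    (hmov : ∃ a ∈ A, a u9 ∉ Z2) (hQ : Q ≤ E1) (hV : ∀ a ∈ A, a u9 ∈ N5) : False := by
  have hCV := CV_eq h hSE hW hfix hmov
  have h5 : N5 ≤ Q := by
    intro x hx
    rw [← hCV, mem_CV]
    intro a ha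
    have h1 : Commute x (a u9) := N5_comm hx (hV a ha)
    exact h1.map π
  obtain ⟨a, ha, hau⟩ := hmov
  have hv5 := hV a ha
  have hvQ : ∀ q ∈ Q, (q.x2 - q.x4) * (a u9).x6 - q.x3 * (a u9).x7 - q.x2 * (a u9).x8 = 0 ∧
      (q.x5 + q.x3) * (a u9).x6 + (q.x2 - q.x4) * (a u9).x7 - q.x3 * (a u9).x8 = 0 := by
    intro q hq
    rw [← N5_E1_comm hv5 (hQ hq)]
    exact central_of_le h hW hQ ha hq
  -- the argument for a pair `(e, x')`
  have main : ∀ e x' : P, e ∈ E1 → x' ∈ E1 → e ∉ Q → ∃ k : ℕ, x' * e ^ k ∈ Q := by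
    intro e x' he hx' heQ
    have h1 := T1_nine T h hSE hW hfix ⟨a, ha, hau⟩ (E1_normalizes h5 hQ he) heQ (fun b hb => by
      obtain ⟨w, hw, e1⟩ := N5_E1_mul (hV b hb) he
      exact conj_of_mul he hw e1)
    exact h1.2 x' (E1_normalizes h5 hQ hx')
  generalize hv : a u9 = v at *
  by_cases h6 : v.x6 = 0
  · by_cases h7 : v.x7 = 0
    · by_cases h8 : v.x8 = 0
      · exact hau ⟨hv5.1, hv5.2.1, hv5.2.2.1, hv5.2.2.2.1, hv5.2.2.2.2, h6, h7, h8⟩
      · have he : u2 ∉ Q := fun hq => by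
          have h1 := (hvQ _ hq).1
          simp only [u2, h6, h7] at h1
          exact h8 (by linear_combination -h1)
        obtain ⟨k, hk⟩ := main u2 u3 u2_mem u3_mem he
        obtain ⟨-, j2, j3, j4, j5⟩ := E1_mul_pow u3_mem u2_mem k
        obtain ⟨g1, g2⟩ := hvQ _ hk
        rw [j2, j3, j4] at g1
        rw [j2, j3, j4, j5] at g2
        simp only [u2, u3, h6, h7] at g1 g2
        have : v.x8 = 0 := by linear_combination -g2
        exact h8 this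
    · have he : u3 ∉ Q := fun hq => by
        have h1 := (hvQ _ hq).1
        simp only [u3, h6] at h1
        exact h7 (by linear_combination -h1)
      obtain ⟨k, hk⟩ := main u3 u4 u3_mem u4_mem he
      obtain ⟨-, j2, j3, j4, j5⟩ := E1_mul_pow u4_mem u3_mem k
      obtain ⟨g1, g2⟩ := hvQ _ hk
      rw [j2, j3, j4] at g1
      rw [j2, j3, j4, j5] at g2
      simp only [u3, u4, h6] at g1 g2
      have hk0 : (k : ZMod 3) = 0 := by
        have : (k : ZMod 3) * v.x7 = 0 := by linear_combination -g1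
        exact (mul_eq_zero.1 this).resolve_right h7
      rw [hk0] at g2
      exact h7 (by linear_combination -g2)
  · have he : u4 ∉ Q := fun hq => by
      have h1 := (hvQ _ hq).1
      simp only [u4] at h1
      exact h6 (by linear_combination -h1)
    obtain ⟨k, hk⟩ := main u4 u5 u4_mem u5_mem he
    obtain ⟨-, j2, j3, j4, j5⟩ := E1_mul_pow u5_mem u4_mem k
    obtain ⟨g1, g2⟩ := hvQ _ hk
    rw [j2, j3, j4] at g1
    rw [j2, j3, j4, j5] at g2
    simp only [u4, u5] at g1 g2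
    have hk0 : (k : ZMod 3) = 0 := by
      have : (k : ZMod 3) * v.x6 = 0 := by linear_combination -g1
      exact (mul_eq_zero.1 this).resolve_right h6
    rw [hk0] at g2
    exact h6 (by linear_combination g2)

/-- elements of `X6` commute with `N5` modulo the centre -/
theorem X6_N5_π_comm {c x : P} (hc : c ∈ N5) (hx : x ∈ X6) : Commute (π c) (π x) := by
  rw [N5_π_comm hc]
  obtain ⟨h1, h2, h3, h4⟩ := hx
  rw [h1, h2, h3, h4]
  refine ⟨by ring, by ring, by ring⟩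

/-- (A2) -/
theorem caseA2 (h : Ctx Q A) (hSE : SE Q A Z2) (hW : Z2 ≤ Q) (hfix : ∀ a ∈ A, a u10 ∈ Z1)
    (hmov : ∃ a ∈ A, a u9 ∉ Z2) (hQ : Q ≤ E1) (hV : ∀ a ∈ A, a u9 ∈ X6) (hV5 : ∃ a ∈ A, a u9 ∉ N5) : False := by
  have hCV := CV_eq h hSE hW hfix hmov
  have h5 : N5 ≤ Q := by
    intro x hx
    rw [← hCV, mem_CV]
    intro a ha
    exact X6_N5_π_comm hx (hV a ha)
  obtain ⟨a, ha, hau⟩ := hV5
  have h6 : u6 ∈ N5 := ⟨rfl, rfl, rfl, rfl, rfl⟩
  have h1 := central_of_le h hW hQ ha (h5 h6)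
  have hE : a u9 ∈ E1 := (hV a ha).1
  have h2 := ((N5_E1_comm h6 hE).1 h1.symm).2
  obtain ⟨k1, k2, k3, k4⟩ := hV a ha
  simp only [u6, k2, k3, k4] at h2
  exact hau ⟨k1, k2, k3, k4, by linear_combination h2⟩

/-- the case where the commutator map of `v` with `N5` has rank two -/
theorem exists_of_not_Rk1 {v : P} (hr : ¬ Rk1 v) : ∃ n ∈ N5,
    (v.x2 - v.x4) * n.x6 - v.x3 * n.x7 - v.x2 * n.x8 = 0 ∧
    (v.x5 + v.x3) * n.x6 + (v.x2 - v.x4) * n.x7 - v.x3 * n.x8 ≠ 0 := by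
  by_contra hcon
  apply hr
  have key : ∀ n6 n7 n8 : ZMod 3, (v.x2 - v.x4) * n6 - v.x3 * n7 - v.x2 * n8 = 0 →
      (v.x5 + v.x3) * n6 + (v.x2 - v.x4) * n7 - v.x3 * n8 = 0 := by
    intro n6 n7 n8 h1
    by_contra h2
    exact hcon ⟨⟨0, 0, 0, 0, 0, n6, n7, n8, 0, 0⟩, ⟨rfl, rfl, rfl, rfl, rfl⟩, h1, h2⟩
  refine ⟨?_, ?_, ?_⟩
  · have := key (-v.x3) (-(v.x2 - v.x4)) 0 (by ring)
    linear_combination this
  · have := key 0 (-v.x2) (v.x3) (by ring)
    linear_combination this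
  · have := key (-v.x2) 0 (-(v.x2 - v.x4)) (by ring)
    linear_combination this

/-- (A3) -/
theorem caseA3 (T : T1W) (h : Ctx Q A) (hSE : SE Q A Z2) (hW : Z2 ≤ Q) (hfix : ∀ a ∈ A, a u10 ∈ Z1)
    (hmov : ∃ a ∈ A, a u9 ∉ Z2) (hQ : Q ≤ E1) (hV : ∃ a ∈ A, a u9 ∉ X6) : False := by
  have hCV := CV_eq h hSE hW hfix hmov
  obtain ⟨a, ha, hau⟩ := hV
  have hvQ : a u9 ∈ Q := h.maps a ha _ (hW u9_mem)
  have hvE : a u9 ∈ E1 := hQ hvQ
  have hvY : a u9 ∉ Y7 := fun hY => hau (mem_X6_of_cube (cube_a h hW ha) hY)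
  have hv2 : a u9 ∉ Z2 := fun h2 => hau ⟨h2.1, h2.2.1, h2.2.2.1, h2.2.2.2.1⟩
  have hcen : ∀ q ∈ Q, a u9 * q = q * a u9 := fun q hq => central_of_le h hW hQ ha hq
  have h23 : (a u9).x2 ≠ 0 ∨ (a u9).x3 ≠ 0 := by
    by_contra hcon
    rw [not_or, not_not, not_not] at hcon
    exact hvY ⟨hvE, hcon.1, hcon.2⟩
  -- `N5` normalizes `Q`
  have hN : ∀ n ∈ N5, n ∈ normalizer (Q : Set P) := by
    intro n hn
    apply mem_normalizer_of
    intro q hq
    obtain ⟨w, hw, e⟩ := N5_E1_mul hn (hQ hq)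
    have h1 : w * n = n * w := N5_comm (N5_of_Z2 hw) hn
    rw [e, mul_assoc q, ← h1, ← mul_assoc, mul_inv_cancel_right]
    exact mul_mem hq (hW hw)
  -- the element `y`
  obtain ⟨y, hy5, hyv⟩ : ∃ y ∈ N5, ¬ y * a u9 = a u9 * y := by
    rcases h23 with h2 | h3
    · refine ⟨u8, ⟨rfl, rfl, rfl, rfl, rfl⟩, fun hc => h2 ?_⟩
      have := ((N5_E1_comm ⟨rfl, rfl, rfl, rfl, rfl⟩ hvE).1 hc).1
      simp only [u8] at this
      linear_combination -this
    · refine ⟨u7, ⟨rfl, rfl, rfl, rfl, rfl⟩, fun hc => h3 ?_⟩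
      have := ((N5_E1_comm ⟨rfl, rfl, rfl, rfl, rfl⟩ hvE).1 hc).1
      simp only [u7] at this
      linear_combination -this
  have hyQ : y ∉ Q := fun hq => hyv (hcen y hq).symm
  obtain ⟨T1, T2⟩ := T1_nine T h hSE hW hfix hmov (hN y hy5) hyQ (fun b hb => by
    have hbE : b u9 ∈ E1 := hQ (h.maps b hb _ (hW u9_mem))
    obtain ⟨w, hw, e⟩ := N5_E1_mul hy5 hbE
    refine ⟨w, hw, ?_⟩
    have h1 : w * y = y * w := N5_comm (N5_of_Z2 hw) hy5
    rw [e, mul_assoc (b u9), ← h1, ← mul_assoc, mul_inv_cancel_right])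
  -- `Q` is the centralizer of `a u9`
  have hQ1 : ∀ x : P, Commute (π x) (π (a u9)) → x ∈ Q := by
    intro x hx
    rw [← hCV, mem_CV]
    intro b hb
    obtain ⟨i, j, z, hz, e⟩ := T1 a ha hv2 b hb
    rw [e, map_mul, map_mul, map_pow, map_pow, π_of_mem hz, mul_one]
    exact (hx.pow_right i).mul_right ((u9_π_comm x).symm.pow_right j)
  have hQ2 : ∀ x : P, x * a u9 = a u9 * x → x ∈ Q := fun x hx => hQ1 x (Commute.map hx π)
  by_cases hr : Rk1 (a u9)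
  · obtain ⟨r1, r2, r3⟩ := hr
    have hv2' : (a u9).x2 ≠ 0 := by
      intro h0
      rw [h0] at r2 h23
      have : (a u9).x3 = 0 := by
        have h4 : (a u9).x3 ^ 2 = 0 := by linear_combination -r2
        exact pow_eq_zero_iff (two_ne_zero) |>.1 h4
      rcases h23 with h5 | h5
      · exact h5 rfl
      · exact h5 this
    -- `a u9 * u4 = u4 * a u9 * c`
    have e1 := E1_mul (a u9) u4 hvE u4_mem
    have hc5 := ce_mem (a u9) u4
    have hcx6 : (ce (a u9) u4).x6 = 0 := by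
      simp only [ce, u4]; ring
    have hcx7 : (ce (a u9) u4).x7 = (a u9).x2 := by
      simp only [ce, u4]; ring
    have hcx8 : (ce (a u9) u4).x8 = (a u9).x5 + (a u9).x3 := by
      simp only [ce, u4]; ring
    have h53 : (a u9).x5 = (a u9).x3 := by
      clear hcx6 hcx7 hcx8
      generalize (a u9).x2 = v2 at r2 r3 r1 hv2'
      generalize (a u9).x3 = v3 at r1 r2 r3 ⊢
      generalize (a u9).x4 = v4 at r1 r2 r3
      generalize (a u9).x5 = v5 at r1 r3 ⊢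
      clear hc5 e1
      revert v2 v3 v4 v5
      decide
    have hcQ : ce (a u9) u4 ∈ Q := by
      apply hQ2
      rw [N5_E1_comm hc5 hvE, hcx6, hcx7, hcx8]
      have h3 : (3 : ZMod 3) = 0 := rfl
      constructor
      · rw [h53]
        linear_combination (-(a u9).x3 * (a u9).x2) * h3
      · rw [h53]
        linear_combination -r2 - (a u9).x3 ^ 2 * h3
    have hcoord : ∀ x ∈ Q, x.x5 * (a u9).x2 = (a u9).x5 * x.x2 ∧
        x.x5 * (a u9).x3 - x.x4 * (a u9).x2 - (a u9).x5 * x.x3 + (a u9).x4 * x.x2 = 0 ∧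
        x.x5 * (a u9).x4 - x.x4 * (a u9).x3 - (a u9).x5 * x.x4 + (a u9).x4 * x.x3 = 0 := by
      intro x hx
      have h1 := E1_mul x (a u9) (hQ hx) hvE
      rw [hcen x hx, left_eq_mul] at h1
      have h6 : (ce x (a u9)).x6 = 0 := by rw [h1]; rfl
      have h7 : (ce x (a u9)).x7 = 0 := by rw [h1]; rfl
      have h8 : (ce x (a u9)).x8 = 0 := by rw [h1]; rfl
      simp only [ce] at h6 h7 h8
      exact ⟨by linear_combination h6, h7, h8⟩
    have hu4 : u4 ∈ normalizer (Q : Set P) := by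
      apply mem_normalizer_of'
      intro q hq
      obtain ⟨h6, h7, h8⟩ := hcoord q hq
      obtain ⟨k, k2, k3, k4, k5⟩ := rank1_cent h23 ⟨r1, r2, r3⟩ h6 h7 h8
      obtain ⟨i1, i2, i3, i4, i5⟩ := E1_pow hvE k.val
      rw [ZMod.natCast_zmod_val] at i2 i3 i4 i5
      have e2 := exists_N5 q (a u9 ^ k.val) ((hQ hq : q.x1 = 0).trans i1.symm) (k2.trans i2.symm) (k3.trans i3.symm)
        (k4.trans i4.symm) (k5.trans i5.symm)
      generalize hn : (⟨0, 0, 0, 0, 0, q.x6 - (a u9 ^ k.val).x6, q.x7 - (a u9 ^ k.val).x7, q.x8 - (a u9 ^ k.val).x8,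
        q.x9 - (a u9 ^ k.val).x9, q.x10 - (a u9 ^ k.val).x10⟩ : P) = n at e2
      have hn5 : n ∈ N5 := by rw [← hn]; exact ⟨rfl, rfl, rfl, rfl, rfl⟩
      have hnQ : n ∈ Q := by
        have : n = (a u9 ^ k.val)⁻¹ * q := by rw [e2, inv_mul_cancel_left]
        rw [this]
        exact mul_mem (inv_mem (pow_mem hvQ _)) hq
      obtain ⟨w, hw, e3⟩ := N5_E1_mul hn5 u4_mem
      have e4 : u4⁻¹ * a u9 * u4 = a u9 * ce (a u9) u4 := by
        rw [mul_assoc, e1, mul_assoc, inv_mul_cancel_left]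
      have e5 : u4⁻¹ * a u9 ^ k.val * u4 = (a u9 * ce (a u9) u4) ^ k.val := by
        rw [← e4]
        have := conj_pow (i := k.val) (a := u4⁻¹) (b := a u9)
        rw [inv_inv] at this
        exact this.symm
      have e6 : u4⁻¹ * n * u4 = n * w := by
        rw [mul_assoc, e3, mul_assoc, inv_mul_cancel_left]
      have e7 : u4⁻¹ * q * u4 = (u4⁻¹ * a u9 ^ k.val * u4) * (u4⁻¹ * n * u4) := by
        rw [e2]; group
      rw [e7, e5, e6]
      exact mul_mem (pow_mem (mul_mem hvQ hcQ) _) (mul_mem hnQ (hW hw))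
    obtain ⟨k, hk⟩ := T2 u4 hu4
    obtain ⟨-, h7, -⟩ := hcoord _ hk
    have hyE : y ∈ E1 := hy5.1
    obtain ⟨-, j2, j3, j4, j5⟩ := E1_mul_pow u4_mem hyE k
    obtain ⟨-, y2, y3, y4, y5⟩ := hy5
    rw [j2, j3, j4, j5, y2, y3, y4, y5] at h7
    simp only [u4] at h7
    exact hv2' (by linear_combination -h7)
  · obtain ⟨n, hn, e9, e10⟩ := exists_of_not_Rk1 hr
    have hnQ : n ∈ Q := by
      apply hQ1
      rw [N5_π_comm hn]
      rw [mem_E1] at hvE
      rw [hvE]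
      refine ⟨by ring, by ring, by linear_combination e9⟩
    have := ((N5_E1_comm hn hvE).1 (hcen n hnQ).symm).2
    exact e10 this

end Cfsg.Agent.H835.Th2
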