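import Cfsg.Agent.H835.Th2.CaseA

/-!
Theorem II, case B: `Q` is not contained in `E1`.
-/

set_option autoImplicit false
set_option linter.style.longLine false

namespace Cfsg.Agent.H835.Th2

open Cfsg.Agent.H776.ThS Subgroup

variable {Q : Subgroup P} {A : Set (P → P)}

theorem X6_π_comm {x y : P} (hx : x ∈ X6) (hy : y ∈ X6) : Commute (π x) (π y) := by
  rw [π_comm]
  refine ⟨ce x y, ?_, E1_mul x y hx.1 hy.1⟩
  obtain ⟨x1, x2, x3, x4⟩ := hx
  obtain ⟨y1, y2, y3, y4⟩ := hy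
  refine ⟨rfl, rfl, rfl, rfl, rfl, ?_, ?_, ?_, ?_⟩
  · simp [ce, x2, y2]
  · simp [ce, x2, x3, x4, y2, y3, y4]
  · simp [ce, x3, x4, y3, y4]
  · simp only [ce]
    rw [mulE_x9 x y y1, mulE_x9 y x x1, x2, x3, x4, y2, y3, y4]
    ring

theorem pow_x1 (v : P) (k : ℕ) : (v ^ k).x1 = k * v.x1 := by
  induction k with
  | zero => rw [pow_zero, Nat.cast_zero, zero_mul]; rfl
  | succ k ih => rw [pow_succ, mul_x1, ih, Nat.cast_succ]; ring

/-- modulo `E1` everything is a power of `v` -/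
theorem exists_pow_E1 {v : P} (hv : v.x1 ≠ 0) (x : P) : ∃ k : ℕ, ∃ y ∈ E1, x = v ^ k * y := by
  refine ⟨(x.x1 / v.x1).val, (v ^ (x.x1 / v.x1).val)⁻¹ * x, ?_, by group⟩
  have h1 : v ^ (x.x1 / v.x1).val * ((v ^ (x.x1 / v.x1).val)⁻¹ * x) = x := by group
  have h2 := congrArg V.x1 h1
  rw [mul_x1, pow_x1, ZMod.natCast_zmod_val, div_mul_cancel₀ _ hv] at h2
  rw [mem_E1]
  linear_combination h2

/-- (B1) -/
theorem caseB1 (h : Ctx Q A) (hSE : SE Q A Z2) (hcore : Core Q A) (hW : Z2 ≤ Q) (hfix : ∀ a ∈ A, a u10 ∈ Z1)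
    (hmov : ∃ a ∈ A, a u9 ∉ Z2) (hV : ∃ a ∈ A, a u9 ∉ E1) : False := by
  have hCV := CV_eq h hSE hW hfix hmov
  obtain ⟨a, ha, hau⟩ := hV
  have hvQ : a u9 ∈ Q := h.maps a ha _ (hW u9_mem)
  have hv3 := cube_a h hW ha
  have hvE2 : a u9 ∈ E2 := mem_E2_of_cube hv3 hau
  have hv1 : (a u9).x1 ≠ 0 := hau
  -- elements commuting with `a u9` modulo the centre
  have hX : ∀ x ∈ E1, Commute (π x) (π (a u9)) → x ∈ X6 := by
    intro x hx hc
    obtain ⟨z, hz, e⟩ := π_comm.1 hc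
    exact cent_E2E1 hau hvE2 hv3 hx hz e
  have hdec : ∀ x : P, Commute (π x) (π (a u9)) → ∃ k : ℕ, ∃ y ∈ X6, x = a u9 ^ k * y := by
    intro x hx
    obtain ⟨k, y, hy, e⟩ := exists_pow_E1 hv1 x
    refine ⟨k, y, hX y hy ?_, e⟩
    have h1 : y = (a u9 ^ k)⁻¹ * x := by rw [e]; group
    rw [h1, map_mul, map_inv, map_pow]
    exact ((Commute.refl (π (a u9))).pow_left k).inv_left.mul_left hx
  have hcomm : ∀ x y : P, Commute (π x) (π (a u9)) → Commute (π y) (π (a u9)) → Commute (π x) (π y) := by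
    intro x y hx hy
    obtain ⟨k, x', hx', e⟩ := hdec x hx
    have h1 : Commute (π x') (π (a u9)) := by
      have h1 : x' = (a u9 ^ k)⁻¹ * x := by rw [e]; group
      rw [h1, map_mul, map_inv, map_pow]
      exact ((Commute.refl (π (a u9))).pow_left k).inv_left.mul_left hx
    obtain ⟨l, y', hy', e'⟩ := hdec y hy
    have h2 : Commute (π x') (π y) := by
      rw [e', map_mul, map_pow]
      exact (h1.pow_right l).mul_right (X6_π_comm hx' hy')
    rw [e, map_mul, map_pow]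
    exact (hy.symm.pow_left k).mul_left h2
  have hQ1 : ∀ x : P, Commute (π x) (π (a u9)) → x ∈ Q := by
    intro x hx
    rw [← hCV, mem_CV]
    intro b hb
    apply hcomm x _ hx
    have hbQ : b u9 ∈ Q := h.maps b hb _ (hW u9_mem)
    rw [← hCV] at hbQ
    exact hbQ a ha
  have hQ2 : ∀ x ∈ Q, Commute (π x) (π (a u9)) := by
    intro x hx
    rw [← hCV] at hx
    exact hx a ha
  -- the element `c`
  have h75 : u7 ∈ N5 := ⟨rfl, rfl, rfl, rfl, rfl⟩
  have hvE2' : (a u9).x2 = 0 := hvE2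
  obtain ⟨c, hc⟩ : ∃ c : P, c = ⟨0, 0, 0, 0, 0, 0, 0, -(a u9).x1, -(a u9).x3, -(a u9).x4 + (a u9).x1 * (a u9).x3⟩ :=
    ⟨_, rfl⟩
  have hc3 : c ∈ Z3 := by rw [hc]; exact ⟨rfl, rfl, rfl, rfl, rfl, rfl, rfl⟩
  have e7 : u7 * a u9 = a u9 * (u7 * c) := by
    rw [N5_mul _ _ h75, mul_right_inj, mulN _ _ (N5_of_Z3 hc3), hc]
    ext <;> simp [cx, u7, hvE2']
  have hcu7 : c * u7 = u7 * c := N5_comm (N5_of_Z3 hc3) h75
  have e7' : u7 * a u9 * u7⁻¹ = a u9 * c := by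
    rw [e7, ← hcu7, ← mul_assoc, mul_inv_cancel_right]
  have hcv : c * a u9 = a u9 * c := by
    rw [comm_iff (N5_of_Z3 hc3), hc]
    ext
    all_goals simp only [cx, hvE2']
    all_goals ring
  have hcX : ∀ x ∈ X6, c * x = x * c := fun x hx => Z3_comm hc3 hx.1 hx.2.1 hx.2.2.1
  have hcQ : ∀ q ∈ Q, c * q = q * c := by
    intro q hq
    obtain ⟨k, y, hy, rfl⟩ := hdec q (hQ2 q hq)
    have h1 : Commute c (a u9 ^ k) := Commute.pow_right hcv k
    rw [← mul_assoc, h1.eq, mul_assoc, hcX y hy, mul_assoc]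
  have h7X : ∀ x ∈ X6, u7 * x = x * u7 := by
    intro x hx
    rw [comm_iff h75]
    obtain ⟨x1, x2, x3, x4⟩ := hx
    ext <;> simp [cx, u7, x1, x2, x3, x4]
  -- `u7` acts on `Q`
  have hact : ∀ q ∈ Q, ∃ k : ℕ, u7 * q * u7⁻¹ = q * c ^ k := by
    intro q hq
    obtain ⟨k, y, hy, rfl⟩ := hdec q (hQ2 q hq)
    refine ⟨k, ?_⟩
    have h1 : u7 * (a u9 ^ k * y) * u7⁻¹ = (u7 * a u9 ^ k * u7⁻¹) * (u7 * y * u7⁻¹) := by group
    have h2 : u7 * y * u7⁻¹ = y := by rw [h7X y hy, mul_inv_cancel_right]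
    have h3 : Commute (a u9) c := hcv.symm
    have h4 : Commute (c ^ k) y := Commute.pow_left (hcX y hy) k
    rw [h1, h2, ← conj_pow, e7', h3.mul_pow, mul_assoc, h4.eq, mul_assoc]
  have hcQ' : c ∈ Q := hQ1 c (Commute.map hcv π)
  have h7N : u7 ∈ normalizer (Q : Set P) := by
    apply mem_normalizer_of
    intro q hq
    obtain ⟨k, e⟩ := hact q hq
    rw [e]
    exact mul_mem hq (pow_mem hcQ' k)
  -- the centre of `Q`
  have h7Q : u7 ∈ Q := by
    refine hcore (Q ⊓ centralizer (Q : Set P)) inf_le_left ?_ u7 h7N ?_ ?_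
    · rintro b hb d ⟨hdQ, hdc⟩
      refine ⟨h.maps b hb d hdQ, mem_centralizer_iff.2 ?_⟩
      intro q hq
      obtain ⟨g, hg, hi⟩ := h.inv b hb
      have hgq := h.maps g hg q hq
      rw [← (hi q hq).2, ← h.mul b hb _ hgq _ hdQ, ← h.mul b hb _ hdQ _ hgq, mem_centralizer_iff.1 hdc _ hgq]
    · intro q hq
      obtain ⟨k, e⟩ := hact q hq
      have h1 : u7 * q * u7⁻¹ * q⁻¹ = c ^ k := by
        have h2 : Commute (c ^ k) q := Commute.pow_left (hcQ q hq) k
        rw [e, ← h2.eq, mul_inv_cancel_right]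
      have h3 : c ∈ Q ⊓ centralizer (Q : Set P) :=
        ⟨hcQ', mem_centralizer_iff.2 fun q' hq' => (hcQ q' hq').symm⟩
      rw [h1]
      exact pow_mem h3 k
    · rintro d ⟨hdQ, hdc⟩
      apply h7X
      apply hX d ?_ (hQ2 d hdQ)
      have h1 := mem_centralizer_iff.1 hdc u9 (hW u9_mem)
      rw [comm_iff (N5_of_Z2 u9_mem)] at h1
      have h2 : (cx u9 d).x10 = 0 := by rw [h1]; rfl
      simp only [cx, u9] at h2
      rw [mem_E1]
      linear_combination h2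
  have := ((N5_π_comm h75).1 (hQ2 u7 h7Q)).2.1
  simp only [u7] at this
  exact hv1 (by linear_combination this)

/-- (B2) -/
theorem caseB2 (T : T1W) (h : Ctx Q A) (hSE : SE Q A Z2) (hW : Z2 ≤ Q) (hfix : ∀ a ∈ A, a u10 ∈ Z1)
    (hmov : ∃ a ∈ A, a u9 ∉ Z2) (hV : ∀ a ∈ A, a u9 ∈ E1) (hq : ∃ q ∈ Q, q ∉ E1) :
    Q = E2 ∧ ∀ a ∈ A, a u9 ∈ Z3 := by
  have hCV := CV_eq h hSE hW hfix hmov
  obtain ⟨q, hqQ, hqE⟩ := hq
  have hq1 : q.x1 ≠ 0 := hqE
  have hcm : ∀ a ∈ A, ∀ x ∈ Q, Commute (π x) (π (a u9)) := by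
    intro a ha x hx
    rw [← hCV] at hx
    exact hx a ha
  have hX : ∀ a ∈ A, a u9 ∈ X6 := by
    intro a ha
    apply mem_X6_of_cube (cube_a h hW ha)
    obtain ⟨z, hz, e⟩ := π_comm.1 (hcm a ha q hqQ)
    obtain ⟨e3, e4, -⟩ := coordsZ hz e
    have hv1 : (a u9).x1 = 0 := hV a ha
    rw [mul_x3, mul_x3, hv1] at e3
    have hv2 : (a u9).x2 = 0 := by
      have : (a u9).x2 * q.x1 = 0 := by linear_combination -e3
      exact (mul_eq_zero.1 this).resolve_right hq1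
    rw [mul_x4, mul_x4, hv1, hv2] at e4
    have hv3 : (a u9).x3 = 0 := by
      have : (a u9).x3 * q.x1 = 0 := by linear_combination e4
      exact (mul_eq_zero.1 this).resolve_right hq1
    exact ⟨hv1, hv2, hv3⟩
  have hZ3 : ∀ a ∈ A, a u9 ∈ N5 → a u9 ∈ Z3 := by
    intro a ha h5
    obtain ⟨g1, g2, -⟩ := (N5_π_comm h5).1 (hcm a ha q hqQ).symm
    have h6 : (a u9).x6 = 0 := (mul_eq_zero.1 g1).resolve_left hq1
    rw [h6, mul_zero] at g2
    have h7 : (a u9).x7 = 0 := (mul_eq_zero.1 g2).resolve_left hq1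
    exact ⟨h5.1, h5.2.1, h5.2.2.1, h5.2.2.2.1, h5.2.2.2.2, h6, h7⟩
  by_cases hE2 : Q ≤ E2
  · by_cases hZ : ∀ a ∈ A, a u9 ∈ Z3
    · refine ⟨le_antisymm hE2 ?_, hZ⟩
      intro x hx
      rw [← hCV, mem_CV]
      intro a ha
      apply Commute.symm
      rw [N5_π_comm (N5_of_Z3 (hZ a ha))]
      obtain ⟨v1, v2, v3, v4, v5, v6, v7⟩ := hZ a ha
      have hx2 : x.x2 = 0 := hx
      rw [v6, v7, hx2]
      refine ⟨by ring, by ring, by ring⟩
    · exfalso
      push Not at hZ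
      obtain ⟨a, ha, haZ⟩ := hZ
      have hq2 : q.x2 = 0 := hE2 hqQ
      have hv5 : (a u9).x5 ≠ 0 := by
        intro h5
        obtain ⟨k1, k2, k3, k4⟩ := hX a ha
        exact haZ (hZ3 a ha ⟨k1, k2, k3, k4, h5⟩)
      -- coordinates
      have hco : ∀ b ∈ A, (b u9).x6 * q.x1 + (b u9).x5 * q.x3 = 0 := by
        intro b hb
        obtain ⟨z, hz, e⟩ := π_comm.1 (hcm b hb q hqQ)
        obtain ⟨-, -, -, -, e7, -⟩ := coordsZ hz e
        obtain ⟨k1, k2, k3, k4⟩ := hX b hb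
        rw [mul_x7, mul_x7, k1, k2, k3, k4, hq2] at e7
        linear_combination -e7
      -- the commutator with `u4`
      have hd : ∀ v ∈ X6, ce u4 v ∈ Z3 ∧ (ce u4 v).x8 = -v.x5 ∧ (ce u4 v).x9 = v.x6 ∧
          u4 * v * u4⁻¹ = v * ce u4 v := by
        rintro v ⟨k1, k2, k3, k4⟩
        have hz : ce u4 v ∈ Z3 := by
          refine ⟨rfl, rfl, rfl, rfl, rfl, ?_, ?_⟩
          · simp [ce, u4, k2]
          · simp [ce, u4, k2, k3]
        refine ⟨hz, ?_, ?_, ?_⟩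
        · simp [ce, u4, k3, k4]
        · simp only [ce]
          rw [mulE_x9 u4 v k1, mulE_x9 v u4 rfl, k2, k3, k4]
          simp only [u4]
          ring
        · have e1 := E1_mul u4 v u4_mem k1
          have e2 : ce u4 v * u4 = u4 * ce u4 v := Z3_comm hz rfl rfl rfl
          rw [e1, mul_assoc v, ← e2, ← mul_assoc, mul_inv_cancel_right]
      obtain ⟨hr3, hr8, hr9, hre⟩ := hd (a u9) (hX a ha)
      have h4Q : u4 ∉ Q := by
        intro hc
        obtain ⟨z, hz, e⟩ := π_comm.1 (hcm a ha u4 hc)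
        rw [E1_mul u4 (a u9) u4_mem (hV a ha), mul_right_inj] at e
        rw [← e] at hz
        apply hv5
        have := hz.2.2.2.2.2.2.2.1
        rw [hr8, neg_eq_zero] at this
        exact this
      have h4N : u4 ∈ normalizer (Q : Set P) := by
        apply mem_normalizer_of'
        intro x hx
        rw [← hCV, mem_CV]
        intro b hb
        obtain ⟨hs3, -, -, hse⟩ := hd (b u9) (hX b hb)
        have h1 : Commute (π x) (π (u4 * b u9 * u4⁻¹)) := by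
          rw [hse, map_mul]
          refine (hcm b hb x hx).mul_right (Commute.symm ?_)
          rw [N5_π_comm (N5_of_Z3 hs3)]
          have hx2 : x.x2 = 0 := hE2 hx
          rw [hs3.2.2.2.2.2.1, hs3.2.2.2.2.2.2, hx2]
          refine ⟨by ring, by ring, by ring⟩
        rw [π_comm_bracket] at h1 ⊢
        have h2 : u4⁻¹ * x * u4 * b u9 * (u4⁻¹ * x * u4)⁻¹ * (b u9)⁻¹ =
            u4⁻¹ * (x * (u4 * b u9 * u4⁻¹) * x⁻¹ * (u4 * b u9 * u4⁻¹)⁻¹) * u4⁻¹⁻¹ := by group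
        rw [h2]
        exact Z1_normal.conj_mem _ h1 _
      have hrpow : ∀ k : ℕ, ce u4 (a u9) ^ k = ⟨0, 0, 0, 0, 0, 0, 0, k * (ce u4 (a u9)).x8, k * (ce u4 (a u9)).x9,
          k * (ce u4 (a u9)).x10⟩ := by
        intro k
        induction k with
        | zero =>
          rw [pow_zero, Nat.cast_zero, zero_mul, zero_mul, zero_mul]
          rfl
        | succ k ih =>
          rw [pow_succ, ih, mulN _ _ (N5_of_Z3 hr3), hr3.2.2.2.2.2.1, hr3.2.2.2.2.2.2, Nat.cast_succ]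
          ext
          all_goals simp only [add_zero]
          all_goals ring
      have hT := (T h hSE hW hfix hmov (y := u4) (r := ce u4 (a u9)) h4N h4Q ?_ ?_ ?_ ?_).1
      · apply hv5
        have := hT.2.2.2.2.2.2.2
        rw [hr8, neg_eq_zero] at this
        exact this
      · have h1 : ce u4 (a u9) = (a u9)⁻¹ * (u4 * a u9 * u4⁻¹) := by rw [hre, inv_mul_cancel_left]
        rw [h1]
        exact mul_mem (inv_mem (subset_closure (Or.inr ⟨a, ha, rfl⟩)))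
          (subset_closure (Or.inr ⟨_, h.comp _ (h.conj u4 h4N) a ha, rfl⟩))
      · rw [hrpow]
        have h3 : ((3 : ℕ) : ZMod 3) = 0 := rfl
        rw [h3, zero_mul, zero_mul, zero_mul]
        exact ⟨rfl, rfl, rfl, rfl, rfl, rfl, rfl, rfl, rfl⟩
      · have e2 : ce u4 (a u9) * u4 = u4 * ce u4 (a u9) := Z3_comm hr3 rfl rfl rfl
        rw [← e2, mul_inv_cancel_right, mul_inv_cancel]
        exact one_mem _
      · intro b hb
        obtain ⟨hs3, hs8, hs9, hse⟩ := hd (b u9) (hX b hb)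
        have ca := hco a ha
        have cb := hco b hb
        refine ⟨((b u9).x5 / (a u9).x5).val, ⟨0, 0, 0, 0, 0, 0, 0, 0, 0, (ce u4 (b u9)).x10 -
          (b u9).x5 / (a u9).x5 * (ce u4 (a u9)).x10⟩, ⟨rfl, rfl, rfl, rfl, rfl, rfl, rfl, rfl, rfl⟩, ?_⟩
        rw [hse, mul_assoc (b u9), mul_right_inj, hrpow, mulN _ _ ⟨rfl, rfl, rfl, rfl, rfl⟩, ZMod.natCast_zmod_val]
        obtain ⟨s1, s2, s3, s4, s5, s6, s7⟩ := hs3
        have hk : (b u9).x5 / (a u9).x5 * (a u9).x5 = (b u9).x5 := div_mul_cancel₀ _ hv5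
        ext
        · exact s1
        · exact s2
        · exact s3
        · exact s4
        · exact s5
        · rw [s6]; simp
        · rw [s7]; simp
        · simp only [hs8, hr8, add_zero]
          linear_combination hk
        · simp only [hs9, hr9, add_zero]
          have : ((b u9).x6 - (b u9).x5 / (a u9).x5 * (a u9).x6) * q.x1 = 0 := by
            linear_combination cb - (b u9).x5 / (a u9).x5 * ca + q.x3 * hk
          have h0 := (mul_eq_zero.1 this).resolve_right hq1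
          linear_combination h0
        · simp
  · exfalso
    obtain ⟨x, hxQ, hxE⟩ := SetLike.not_le_iff_exists.1 hE2
    have hx2 : x.x2 ≠ 0 := hxE
    obtain ⟨a, ha, hau⟩ := hmov
    apply hau
    obtain ⟨k1, k2, k3, k4⟩ := hX a ha
    have hv5 : (a u9).x5 = 0 := by
      obtain ⟨z, hz, e⟩ := π_comm.1 (hcm a ha x hxQ)
      obtain ⟨-, -, -, e6, -⟩ := coordsZ hz e
      rw [mul_x6, mul_x6, k1, k2] at e6
      have : (a u9).x5 * x.x2 = 0 := by linear_combination -e6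
      exact (mul_eq_zero.1 this).resolve_right hx2
    have h5 : a u9 ∈ N5 := ⟨k1, k2, k3, k4, hv5⟩
    have h3 := hZ3 a ha h5
    have g3 := ((N5_π_comm h5).1 (hcm a ha x hxQ).symm).2.2
    have h6 := h3.2.2.2.2.2.1
    have h7 := h3.2.2.2.2.2.2
    rw [h6, h7] at g3
    have h8 : (a u9).x8 = 0 := by
      have : x.x2 * (a u9).x8 = 0 := by linear_combination -g3
      exact (mul_eq_zero.1 this).resolve_left hx2
    exact ⟨k1, k2, k3, k4, hv5, h6, h7, h8⟩

/-- Theorem II, from `t1w` -/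
theorem thmII_of (T : T1W) (h : Ctx Q A) (hSE : SE Q A Z2) (hcore : Core Q A) (hW : Z2 ≤ Q)
    (hfix : ∀ a ∈ A, a u10 ∈ Z1) (hmov : ∃ a ∈ A, a u9 ∉ Z2) :
    Q = E2 ∧ ∀ a ∈ A, ∀ w ∈ Z2, a w ∈ Z3 := by
  have key : Q = E2 ∧ ∀ a ∈ A, a u9 ∈ Z3 := by
    by_cases hQ : Q ≤ E1
    · exfalso
      by_cases h6 : ∀ a ∈ A, a u9 ∈ X6
      · by_cases h5 : ∀ a ∈ A, a u9 ∈ N5
        · exact caseA1 T h hSE hW hfix hmov hQ h5
        · push Not at h5
          exact caseA2 h hSE hW hfix hmov hQ h6 h5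
      · push Not at h6
        exact caseA3 T h hSE hW hfix hmov hQ h6
    · by_cases hV : ∀ a ∈ A, a u9 ∈ E1
      · exact caseB2 T h hSE hW hfix hmov hV (SetLike.not_le_iff_exists.1 hQ)
      · push Not at hV
        exact (caseB1 h hSE hcore hW hfix hmov hV).elim
  refine ⟨key.1, fun a ha w hw => ?_⟩
  obtain ⟨k, z, hz, rfl⟩ := exists_pow_of_Z2 hw
  have h9 : u9 ∈ Q := hW u9_mem
  rw [h.mul a ha _ (pow_mem h9 k) _ (hW (Z2_of_Z1 hz)), h.map_pow ha h9]
  exact mul_mem (pow_mem (key.2 a ha) k) (Z3_of_Z2 (Z2_of_Z1 (map_Z1 h hW hfix ha hz)))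

end Cfsg.Agent.H835.Th2
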